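import Groth.Agent.Lib.Ample.Criterion
import Mathlib.AlgebraicGeometry.Noetherian
import Mathlib.AlgebraicGeometry.Morphisms.FiniteType
import Mathlib.AlgebraicGeometry.Morphisms.Proper

/-!
# Base loci of powers of an invertible module
-/

universe u

set_option autoImplicit false
set_option linter.all false

open AlgebraicGeometry CategoryTheory TopologicalSpace

noncomputable section

namespace GrothLib.BaseLocus

open GrothLib.Ample

variable {X : Scheme.{u}}

/-- The base locus of the complete linear series of `M`. -/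
def bs (M : X.Modules) : Set X :=
  {x : X | ∀ s : Coh.structureModule X ⟶ M, x ∉ CohB1.genLocus M s}

/-- The stable base locus of `L`. -/
def stable (L : X.Modules) : Set X :=
  {x : X | ∀ m : ℕ, 0 < m → x ∈ bs (CohB1.tensorPow L m)}

theorem isClosed_bs (M : X.Modules) : IsClosed (bs M) := by
  have h : bs M = ⋂ s : Coh.structureModule X ⟶ M, ((CohB1.genLocus M s : Set X))ᶜ := by
    ext x; simp [bs]
  rw [h]
  exact isClosed_iInter fun s => (CohB1.genLocus M s).isOpen.isClosed_compl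

theorem mem_bs_iff (c : Cocycle X) {L : X.Modules} (e : L ≅ c.twist 1) (m : ℕ) (x : X) :
    x ∈ bs (CohB1.tensorPow L m) ↔ ∀ a : c.sect m ⊤, x ∉ c.locus a := by
  obtain ⟨d⟩ := c.nonempty_tensorPow_iso e m
  constructor
  · intro h a
    obtain ⟨s, hs⟩ := c.exists_section_of_sect d a
    rw [← hs]; exact h s
  · intro h s
    obtain ⟨a, ha⟩ := c.exists_sect_of_section d s
    rw [← ha]; exact h a

variable {L : X.Modules} (hL : PicF.IsInvertible L)

include hL

theorem bs_subset_of_dvd {a b : ℕ} (hb : 0 < b) (h : a ∣ b) :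
    bs (CohB1.tensorPow L b) ⊆ bs (CohB1.tensorPow L a) := by
  obtain ⟨k, rfl⟩ := h
  obtain ⟨c, ⟨e⟩⟩ := exists_cocycle hL
  intro x hx
  rw [mem_bs_iff c e] at hx ⊢
  intro s
  have := hx (c.sectPow s k)
  rwa [c.locus_sectPow s (Nat.pos_of_mul_pos_left hb)] at this

theorem exists_stable [NoetherianSpace X] :
    ∃ n₀ : ℕ, 0 < n₀ ∧ stable L = bs (CohB1.tensorPow L n₀) ∧
      ∀ k : ℕ, 0 < k → stable L = bs (CohB1.tensorPow L (k * n₀)) := by
  let f : {m : ℕ // 0 < m} → Closeds X := fun m => ⟨bs (CohB1.tensorPow L m.1), isClosed_bs _⟩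
  obtain ⟨_, ⟨m₀, rfl⟩, hmin⟩ := (wellFounded_lt (α := Closeds X)).has_min (Set.range f)
    ⟨_, ⟨⟨1, one_pos⟩, rfl⟩⟩
  have key : ∀ k : ℕ, 0 < k → bs (CohB1.tensorPow L (k * m₀.1)) = bs (CohB1.tensorPow L m₀.1) := by
    intro k hk
    have hle : f ⟨k * m₀.1, Nat.mul_pos hk m₀.2⟩ ≤ f m₀ :=
      bs_subset_of_dvd hL (Nat.mul_pos hk m₀.2) (Dvd.intro_left k rfl)
    rcases lt_or_eq_of_le hle with h | h
    · exact absurd h (hmin _ ⟨_, rfl⟩)
    · exact congrArg SetLike.coe h
  have hs : stable L = bs (CohB1.tensorPow L m₀.1) := by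
    refine Set.Subset.antisymm (fun x (hx : x ∈ stable L) => hx m₀.1 m₀.2) ?_
    intro x hx m hm
    rw [← key m hm] at hx
    exact bs_subset_of_dvd hL (Nat.mul_pos hm m₀.2) (Dvd.intro m₀.1 rfl) hx
  exact ⟨m₀.1, m₀.2, hs, fun k hk => hs.trans (key k hk).symm⟩

theorem stable_tensorPow {p : ℕ} (hp : 0 < p) : stable (CohB1.tensorPow L p) = stable L := by
  obtain ⟨c, ⟨e⟩⟩ := exists_cocycle hL
  obtain ⟨e'⟩ := c.nonempty_tensorPow_iso_pow e p
  have key : ∀ m, bs (CohB1.tensorPow (CohB1.tensorPow L p) m) = bs (CohB1.tensorPow L (p * m)) := by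
    intro m
    ext x
    rw [mem_bs_iff (c.pow p) e', mem_bs_iff c e]
    exact ⟨fun h a => c.locus_toPow p a ▸ h (c.toPow p a), fun h a => c.locus_ofPow p a ▸ h (c.ofPow p a)⟩
  ext x
  constructor
  · intro hx m hm
    exact bs_subset_of_dvd hL (Nat.mul_pos hp hm) (Dvd.intro_left p rfl) (key m ▸ hx m hm)
  · intro hx m hm
    exact (key m).symm ▸ hx (p * m) (Nat.mul_pos hp hm)

omit hL

theorem noetherianSpace_of_isProper {S : Scheme.{u}} [IsNoetherian S] (f : X ⟶ S) [IsProper f] :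
    NoetherianSpace X := by
  haveI := LocallyOfFiniteType.isLocallyNoetherian f
  haveI : CompactSpace X := QuasiCompact.compactSpace_of_compactSpace f
  haveI : IsNoetherian X := ⟨⟩
  infer_instance

end GrothLib.BaseLocus
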